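import Groth.Agent.L16.SolvTorsor.Step
import Groth.Agent.L16.GLTorsor.Cocycle
import Groth.Agent.L25.HopfFlatGen
import Groth.Agent.L08.HopfImage
import Groth.Agent.L01.Unip.VectorChar0
import Mathlib.Algebra.Polynomial.Laurent
import Mathlib.RingTheory.HopfAlgebra.GroupLike
import Mathlib.Algebra.Polynomial.Taylor

/-!
# Cutting torsor algebras down by primitive and group-like elements
-/

set_option autoImplicit false
set_option linter.style.haveILetI false

universe u

open TensorProduct WithConv
open Groth.L27.Torsor (e12 e13 e23)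
open Groth.L01.Unip.Coconn (Prim)

noncomputable section

namespace Groth.L16.SolvTorsor

variable {k : Type u} [Field k] {A : Type u} [CommRing A] [HopfAlgebra k A] [Algebra.FiniteType k A]

omit [Algebra.FiniteType k A] in
/-- The range of an algebra map closed under comultiplication and antipode gives faithful flatness. -/
theorem faithfullyFlat_of_range {S : Type u} [CommRing S] [Algebra k S] [Algebra S A] [IsScalarTower k S A]
    (hinj : Function.Injective (algebraMap S A))
    (hsub : SGA3.IsHopfSubalgebra k A (IsScalarTower.toAlgHom k S A).range) : Module.FaithfullyFlat S A := by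
  let R := (IsScalarTower.toAlgHom k S A).range
  have h : (algebraMap R A).FaithfullyFlat :=
    RingHom.faithfullyFlat_algebraMap_iff.2 (Groth.L25.HopfFlat.faithfullyFlat R hsub)
  have hb : Function.Bijective (IsScalarTower.toAlgHom k S A).rangeRestrict :=
    ⟨fun x y e => hinj (congrArg Subtype.val e), AlgHom.rangeRestrict_surjective _⟩
  rw [← RingHom.faithfullyFlat_algebraMap_iff]
  exact Groth.L08.HopfImage.faithfullyFlat_comp (RingHom.FaithfullyFlat.of_bijective hb) h

omit [Algebra.FiniteType k A] in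
theorem prim_counit {p : A} (hp : Prim (k := k) p) : Coalgebra.counit (R := k) p = 0 := by
  have h := Coalgebra.rTensor_counit_comul (R := k) p
  rw [show Coalgebra.comul (R := k) p = _ from hp, map_add, LinearMap.rTensor_tmul, LinearMap.rTensor_tmul,
    Bialgebra.counit_one] at h
  have h' := congrArg (TensorProduct.lid k A) h
  simpa [Algebra.smul_def] using congrArg (Coalgebra.counit (R := k)) h'

omit [Algebra.FiniteType k A] in
theorem prim_antipode {p : A} (hp : Prim (k := k) p) : HopfAlgebraStruct.antipode (R := k) p = -p := by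
  have h := HopfAlgebra.mul_antipode_rTensor_comul_apply (R := k) p
  rw [show Coalgebra.comul (R := k) p = _ from hp, prim_counit hp] at h
  simp only [map_add, LinearMap.rTensor_tmul, LinearMap.mul'_apply, mul_one, HopfAlgebra.antipode_one, one_mul,
    map_zero] at h
  exact eq_neg_of_add_eq_zero_left h

omit [Algebra.FiniteType k A] in
theorem isHopfIdeal_span (a : A) (hc : Coalgebra.counit (R := k) a = 0)
    (hd : Algebra.TensorProduct.map (Ideal.Quotient.mkₐ k (Ideal.span {a})) (Ideal.Quotient.mkₐ k (Ideal.span {a}))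
      (Coalgebra.comul (R := k) a) = 0)
    (hs : HopfAlgebraStruct.antipode (R := k) a ∈ Ideal.span {a}) : (Ideal.span {a}).IsHopfIdeal k := by
  let f : A →ₐ[k] (A ⧸ Ideal.span {a}) ⊗[k] (A ⧸ Ideal.span {a}) :=
    (Algebra.TensorProduct.map (Ideal.Quotient.mkₐ k _) (Ideal.Quotient.mkₐ k _)).comp (Bialgebra.comulAlgHom k A)
  refine { toIsCoideal := ⟨fun x hx => ?_, fun x hx => ?_⟩, antipode_mem := fun x hx => ?_ }
  all_goals obtain ⟨r, rfl⟩ := Ideal.mem_span_singleton'.1 hx
  · rw [Bialgebra.counit_mul, hc, mul_zero]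
  · have h0 : f (r * a) = 0 := by
      rw [map_mul]
      exact mul_eq_zero_of_right _ hd
    exact h0
  · rw [HopfAlgebra.antipode_mul_distrib]
    exact Ideal.mul_mem_left _ _ hs

omit [Algebra.FiniteType k A] in
theorem isHopfIdeal_span_prim {p : A} (hp : Prim (k := k) p) : (Ideal.span {p}).IsHopfIdeal k := by
  refine isHopfIdeal_span p (prim_counit hp) ?_ (by rw [prim_antipode hp]; exact neg_mem (Ideal.mem_span_singleton_self p))
  have h0 : Ideal.Quotient.mkₐ k (Ideal.span {p}) p = 0 :=
    Ideal.Quotient.eq_zero_iff_mem.2 (Ideal.mem_span_singleton_self p)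
  rw [show Coalgebra.comul (R := k) p = _ from hp]
  simp [map_add, h0]

omit [Algebra.FiniteType k A] in
/-- A nonzero primitive element is transcendental in characteristic zero. -/
theorem aeval_injective_of_prim [CharZero k] {p : A} (hp : Prim (k := k) p) (hp0 : p ≠ 0) :
    Function.Injective (Polynomial.aeval p : Polynomial k →ₐ[k] A) := by
  haveI : Nontrivial A := ⟨⟨p, 0, hp0⟩⟩
  rw [injective_iff_map_eq_zero]
  intro f hf
  induction hn : f.natDegree using Nat.strong_induction_on generalizing f with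
  | _ n ih =>
  subst hn
  obtain ⟨φ, hφ1, hφp⟩ : ∃ φ : A →ₗ[k] k, φ 1 = 0 ∧ φ p = 1 := by
    have hli : LinearIndependent k ![(1 : A), p] := by
      rw [LinearIndependent.pair_iff]
      intro s t hst
      have h1 := congrArg (Coalgebra.counit (R := k)) hst
      simp [prim_counit hp] at h1
      subst h1
      simp only [zero_smul, zero_add, smul_eq_zero] at hst
      exact ⟨rfl, hst.resolve_right hp0⟩
    let W := Submodule.span k (Set.range ![(1 : A), p])
    obtain ⟨φ, hφ⟩ := LinearMap.exists_extend ((Module.Basis.span hli).coord 1)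
    refine ⟨φ, ?_, ?_⟩
    · have := LinearMap.congr_fun hφ ⟨(1 : A), Submodule.subset_span ⟨0, rfl⟩⟩
      simp only [LinearMap.comp_apply, Submodule.coe_subtype] at this
      rw [this, show (⟨(1 : A), _⟩ : W) = Module.Basis.span hli 0 from Subtype.ext (by simp [Module.Basis.span_apply]),
        Module.Basis.coord_apply, Module.Basis.repr_self]
      simp
    · have := LinearMap.congr_fun hφ ⟨p, Submodule.subset_span ⟨1, rfl⟩⟩
      simp only [LinearMap.comp_apply, Submodule.coe_subtype] at this
      rw [this, show (⟨p, _⟩ : W) = Module.Basis.span hli 1 from Subtype.ext (by simp [Module.Basis.span_apply]),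
        Module.Basis.coord_apply, Module.Basis.repr_self]
      simp
  -- comultiplication of a power
  have key : ∀ i : ℕ, TensorProduct.rid k A (φ.lTensor A (Coalgebra.comul (R := k) (p ^ i))) =
      ∑ j ∈ Finset.range (i + 1), (i.choose j : k) • φ (p ^ (i - j)) • p ^ j := by
    intro i
    rw [Bialgebra.comul_pow, show Coalgebra.comul (R := k) p = _ from hp,
      Commute.add_pow (Commute.all _ _), map_sum, map_sum]
    refine Finset.sum_congr rfl fun j _ => ?_
    rw [Algebra.TensorProduct.tmul_pow, Algebra.TensorProduct.tmul_pow, Algebra.TensorProduct.tmul_mul_tmul,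
      ← Nat.cast_comm, ← nsmul_eq_mul, map_nsmul, map_nsmul, LinearMap.lTensor_tmul, TensorProduct.rid_tmul]
    simp [nsmul_eq_mul, Nat.cast_smul_eq_nsmul]
  -- evaluate along the derivation `p ↦ 1`
  let D : A →ₗ[k] A := (TensorProduct.rid k A).toLinearMap ∘ₗ φ.lTensor A ∘ₗ Coalgebra.comul (R := k)
  have h0 : D (Polynomial.aeval p f) = 0 := by rw [hf, map_zero]
  by_contra hne
  let q : Polynomial k := ∑ i ∈ Finset.range (f.natDegree + 1),
    ∑ j ∈ Finset.range i, Polynomial.C (f.coeff i * (i.choose j : k) * φ (p ^ (i - j))) * Polynomial.X ^ j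
  have hq : D (Polynomial.aeval p f) = Polynomial.aeval p q := by
    rw [Polynomial.aeval_eq_sum_range, map_sum, map_sum]
    refine Finset.sum_congr rfl fun i _ => ?_
    rw [map_smul]
    show f.coeff i • TensorProduct.rid k A (φ.lTensor A (Coalgebra.comul (R := k) (p ^ i))) = _
    rw [key, Finset.sum_range_succ, Nat.sub_self, pow_zero, hφ1, zero_smul, smul_zero, add_zero, Finset.smul_sum,
      map_sum]
    refine Finset.sum_congr rfl fun j _ => ?_
    simp [Algebra.smul_def, mul_assoc]
  have hd : 0 < f.natDegree := by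
    by_contra hd
    rw [Polynomial.eq_C_of_natDegree_eq_zero (by omega : f.natDegree = 0), Polynomial.aeval_C] at hf
    refine hne ?_
    rw [Polynomial.eq_C_of_natDegree_eq_zero (by omega : f.natDegree = 0),
      (map_eq_zero_iff _ (algebraMap k A).injective).1 hf, map_zero]
  have hqdeg : q.natDegree ≤ f.natDegree - 1 := by
    refine Polynomial.natDegree_sum_le_of_forall_le _ _ fun i hi => ?_
    refine Polynomial.natDegree_sum_le_of_forall_le _ _ fun j hj => ?_
    refine le_trans (Polynomial.natDegree_C_mul_X_pow_le _ _) ?_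
    have := Finset.mem_range.1 hi; have := Finset.mem_range.1 hj; omega
  have hq0 : q = 0 := ih q.natDegree (by omega) q (hq.symm.trans h0) rfl
  have hc := congrArg (fun g : Polynomial k => g.coeff (f.natDegree - 1)) hq0
  simp only [q, Polynomial.finsetSum_coeff, Polynomial.coeff_C_mul_X_pow, Polynomial.coeff_zero] at hc
  rw [Finset.sum_eq_single f.natDegree] at hc
  · rw [Finset.sum_eq_single (f.natDegree - 1)] at hc
    · rw [if_pos rfl, show f.natDegree - (f.natDegree - 1) = 1 by omega, pow_one, hφp, mul_one,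
        show f.natDegree.choose (f.natDegree - 1) = f.natDegree from Nat.choose_symm (by omega : 1 ≤ f.natDegree) |>.trans (Nat.choose_one_right _)] at hc
      rcases mul_eq_zero.1 hc with h | h
      · rw [Polynomial.coeff_natDegree, Polynomial.leadingCoeff_eq_zero] at h
        exact hne h
      · exact absurd h (Nat.cast_ne_zero.2 (by omega))
    · intro j _ hj
      rw [if_neg (Ne.symm hj)]
    · intro h; exact absurd (Finset.mem_range.2 (by omega)) h
  · intro i hi hne'
    refine Finset.sum_eq_zero fun j hj => if_neg ?_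
    have := Finset.mem_range.1 hi; have := Finset.mem_range.1 hj; omega
  · intro h; exact absurd (Finset.mem_range.2 (by omega)) h

variable {B : Type u} [CommRing B] [Algebra k B] {C : Type u} [CommRing C] [Algebra B C] [Algebra k C]
  [IsScalarTower k B C]

/-- Cutting down by a primitive element. -/
theorem exists_cut_prim [CharZero k] [Module.FaithfullyFlat B C] {θ : A →ₐ[k] C ⊗[B] C} (h : IsTorsor θ) {p : A}
    (hp : Prim (k := k) p) (hp0 : p ≠ 0) [(Ideal.span {p}).IsHopfIdeal k] :
    ∃ (z : C), Module.FaithfullyFlat B (C ⧸ Ideal.span {z}) ∧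
      ∃ θ' : A ⧸ Ideal.span {p} →ₐ[k] (C ⧸ Ideal.span {z}) ⊗[B] (C ⧸ Ideal.span {z}), IsTorsor θ' := by
  have hc := congrArg (fun f : WithConv (A →ₐ[k] C ⊗[B] (C ⊗[B] C)) => f.ofConv p) h.cocycle
  simp only [AlgHom.convMul_apply, show Coalgebra.comul (R := k) p = _ from hp, map_add,
    Algebra.TensorProduct.lift_tmul, map_one, mul_one, one_mul,
    AlgHom.comp_apply, AlgHom.restrictScalars_apply] at hc
  obtain ⟨s, hs⟩ := Groth.L01.UnipSplit.exists_sub_eq_algHom (C := B) (D := C) (c := θ p)
    (hc.trans (add_comm _ _))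
  letI : Algebra (Polynomial k) A := (Polynomial.aeval p).toRingHom.toAlgebra
  letI : Algebra (Polynomial k) C := (Polynomial.aeval (-s) : Polynomial k →ₐ[k] C).toRingHom.toAlgebra
  haveI : IsScalarTower k (Polynomial k) A :=
    IsScalarTower.of_algebraMap_eq fun c => ((Polynomial.aeval p).commutes c).symm
  haveI : IsScalarTower k (Polynomial k) C :=
    IsScalarTower.of_algebraMap_eq fun c => ((Polynomial.aeval (-s) : Polynomial k →ₐ[k] C).commutes c).symm
  haveI : Module.FaithfullyFlat (Polynomial k) A := by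
    refine faithfullyFlat_of_range (k := k) (aeval_injective_of_prim hp hp0) ⟨?_, ?_⟩
    · intro b hb
      let V := (IsScalarTower.toAlgHom k (Polynomial k) A).range
      have hV : V = Algebra.adjoin k {p} := by
        rw [Algebra.adjoin_singleton_eq_range_aeval]; rfl
      have hle : Algebra.adjoin k {p} ≤
          ((Algebra.TensorProduct.map V.val V.val).range).comap (Bialgebra.comulAlgHom k A) := by
        rw [Algebra.adjoin_le_iff, Set.singleton_subset_iff]
        have hpV : p ∈ V := ⟨Polynomial.X, by simp [RingHom.algebraMap_toAlgebra]⟩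
        exact ⟨(⟨p, hpV⟩ : V) ⊗ₜ 1 + 1 ⊗ₜ ⟨p, hpV⟩, by simpa using hp.symm⟩
      obtain ⟨t, ht⟩ := hle (hV ▸ hb : b ∈ Algebra.adjoin k {p})
      exact ⟨t, ht⟩
    · rintro _ ⟨f, rfl⟩
      refine ⟨f.comp (-Polynomial.X), ?_⟩
      have e : (HopfAlgebra.antipodeAlgHom k A).comp (Polynomial.aeval p) =
          (Polynomial.aeval p).comp (Polynomial.aeval (-Polynomial.X : Polynomial k)) := by
        refine Polynomial.algHom_ext ?_
        simp [prim_antipode hp]
      exact (AlgHom.congr_fun e f).symm
  refine ⟨s, exists_cut h (Polynomial.X : Polynomial k) (fun f g e => Polynomial.algHom_ext e) p s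
    (s ⊗ₜ[k] (1 : A) + (1 : C) ⊗ₜ[k] p) ?_ ?_ ?_ ?_⟩
  · rw [map_add, shear_tmul, shear_tmul, map_one, mul_one, hs,
      show ((1 : C) ⊗ₜ[B] (1 : C)) = 1 from rfl, one_mul]
    abel
  · simp [RingHom.algebraMap_toAlgebra, TensorProduct.neg_tmul, add_comm]
  · exact Ideal.mem_span_pair.2 ⟨1, 1, by rw [one_mul, one_mul]⟩
  · exact Ideal.mem_span_pair.2 ⟨1, -1, by ring⟩

/-- Cutting down by a group-like element, over a local base. -/
theorem exists_cut_groupLike [IsLocalRing B] [Module.FaithfullyFlat B C] {θ : A →ₐ[k] C ⊗[B] C} (h : IsTorsor θ)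
    {χ : A} (hχ : IsGroupLikeElem k χ) (hfree : ∀ n : ℤ, n ≠ 0 → hχ.isUnit.unit ^ n ≠ 1)
    [(Ideal.span {χ - 1}).IsHopfIdeal k] :
    ∃ (z : C), Module.FaithfullyFlat B (C ⧸ Ideal.span {z}) ∧
      ∃ θ' : A ⧸ Ideal.span {χ - 1} →ₐ[k] (C ⧸ Ideal.span {z}) ⊗[B] (C ⧸ Ideal.span {z}), IsTorsor θ' := by
  have hc := congrArg (fun f : WithConv (A →ₐ[k] C ⊗[B] (C ⊗[B] C)) => f.ofConv χ) h.cocycle
  simp only [AlgHom.convMul_apply, hχ.comul_eq_tmul_self] at hc
  simp at hc
  let c : Matrix (Fin 1) (Fin 1) (C ⊗[B] C) := Matrix.of fun _ _ => θ χ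
  have hcM : c.map (e13 B C) = c.map (e23 B C) * c.map (e12 B C) := by
    refine Matrix.ext fun i j => ?_
    simp [c, Matrix.mul_apply, hc]
  have hu : IsUnit c := by
    rw [Matrix.isUnit_iff_isUnit_det]
    simpa [c, Matrix.det_fin_one] using hχ.isUnit.map θ
  obtain ⟨M, f, hf, hM, β, hβ⟩ := Groth.L16.GLTorsor.exists_coboundary B C 1 c hcM hu (IsLocalRing.maximalIdeal B)
  let m := M 0 0
  have hm : θ χ * (m ⊗ₜ[B] (1 : C)) = (1 : C) ⊗ₜ[B] m := by
    have := congrFun (congrFun hM 0) 0
    simpa [c, Matrix.mul_apply, m] using this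
  have hmu : IsUnit m := by
    have hfu : IsUnit f := IsLocalRing.notMem_maximalIdeal.1 hf
    rw [Matrix.det_fin_one] at hβ
    exact isUnit_of_mul_isUnit_left (y := β) (hβ ▸ hfu.map (algebraMap B C))
  obtain ⟨mu, hmu⟩ := hmu
  let gA : Multiplicative ℤ →* A := (Units.coeHom A).comp (zpowersHom Aˣ hχ.isUnit.unit)
  let gC : Multiplicative ℤ →* C := (Units.coeHom C).comp (zpowersHom Cˣ mu⁻¹)
  let ιA : MonoidAlgebra k (Multiplicative ℤ) →ₐ[k] A := MonoidAlgebra.lift k A _ gA
  let S := MonoidAlgebra k (Multiplicative ℤ)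
  letI : Algebra S A := ιA.toRingHom.toAlgebra
  letI : Algebra S C := (MonoidAlgebra.lift k C _ gC).toRingHom.toAlgebra
  haveI : IsScalarTower k S A := IsScalarTower.of_algebraMap_eq fun c => (ιA.commutes c).symm
  haveI : IsScalarTower k S C :=
    IsScalarTower.of_algebraMap_eq fun c => ((MonoidAlgebra.lift k C _ gC).commutes c).symm
  haveI : Nontrivial A := (Bialgebra.counitAlgHom k A).toRingHom.domain_nontrivial
  have hgl : ∀ n, IsGroupLikeElem k (gA n) := fun n => by
    have : gA n = (((zpowersHom (GroupLike k A) ⟨χ, hχ⟩) n : GroupLike k A) : A) := by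
      let U : GroupLike k A →* Aˣ := MonoidHom.toHomUnits ⟨⟨fun g => (g : A), rfl⟩, fun _ _ => rfl⟩
      have e : hχ.isUnit.unit = U ⟨χ, hχ⟩ := Units.ext rfl
      show ((hχ.isUnit.unit ^ n.toAdd : Aˣ) : A) = _
      rw [e, ← map_zpow]
      rfl
    rw [this]
    exact GroupLike.isGroupLikeElem_val _
  have hlift : ∀ n r, algebraMap S A (MonoidAlgebra.single n r) = r • gA n := fun n r => MonoidAlgebra.lift_single gA n r
  haveI : Module.FaithfullyFlat S A := by
    refine faithfullyFlat_of_range (k := k) (S := S) (A := A) ?_ ⟨?_, ?_⟩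
    · have hinj : Function.Injective gA := by
        refine (injective_iff_map_eq_one gA).2 fun n hn => ?_
        by_contra hne
        exact hfree n.toAdd (fun e => hne e) (Units.ext hn)
      have hli : LinearIndependent k gA :=
        (linearIndepOn_id_range_iff hinj).1 ((linearIndepOn_isGroupLikeElem (R := k) (A := A)).mono
          (by rintro _ ⟨n, rfl⟩; exact hgl n))
      intro x y hxy
      have e : ∀ x : S, algebraMap S A x = Finsupp.linearCombination k gA x.coeff := fun x => by
        rw [Finsupp.linearCombination_apply]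
        exact MonoidAlgebra.lift_apply gA x
      rw [e, e] at hxy
      exact MonoidAlgebra.coeff_injective (hli hxy)
    · rintro _ ⟨x, rfl⟩
      induction x using MonoidAlgebra.induction_linear with
      | zero => simp
      | add x y hx hy => rw [map_add, map_add]; exact add_mem hx hy
      | single n r =>
        have hn : algebraMap S A (MonoidAlgebra.single n 1) = gA n := (hlift n 1).trans (one_smul _ _)
        refine ⟨r • (⟨gA n, MonoidAlgebra.single n 1, hn⟩ ⊗ₜ[k] ⟨gA n, MonoidAlgebra.single n 1, hn⟩), ?_⟩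
        show _ = Coalgebra.comul (R := k) (algebraMap S A (MonoidAlgebra.single n r))
        rw [hlift, map_smul, map_smul, (hgl n).comul_eq_tmul_self]
        rfl
    · rintro _ ⟨x, rfl⟩
      induction x using MonoidAlgebra.induction_linear with
      | zero => simp
      | add x y hx hy => rw [map_add, map_add]; exact add_mem hx hy
      | single n r =>
        refine ⟨MonoidAlgebra.single n⁻¹ r, ?_⟩
        show algebraMap S A _ = HopfAlgebraStruct.antipode (R := k) (algebraMap S A _)
        rw [hlift, hlift, map_smul]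
        congr 1
        refine left_inv_eq_right_inv (a := gA n) ?_ (hgl n).mul_antipode_cancel
        rw [← map_mul, inv_mul_cancel, map_one]
  refine ⟨m - 1, exists_cut h (MonoidAlgebra.single (Multiplicative.ofAdd (1 : ℤ)) 1 : S)
    (fun f g e => MonoidAlgebra.algHom_ext' (MonoidHom.ext_mint e) (Subsingleton.elim _ _)) (χ - 1) (m - 1)
    (m ⊗ₜ[k] χ - 1) ?_ ?_ ?_ ?_⟩
  · rw [map_sub, map_one, shear_tmul, mul_comm, hm, TensorProduct.tmul_sub]
    rfl
  · rw [show algebraMap S A (MonoidAlgebra.single (Multiplicative.ofAdd (1 : ℤ)) 1) = χ by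
        refine (MonoidAlgebra.lift_single gA _ _).trans ?_
        rw [one_smul]
        exact congrArg Units.val (zpow_one _),
      show algebraMap S C (MonoidAlgebra.single (Multiplicative.ofAdd (1 : ℤ)) 1) = ((mu⁻¹ : Cˣ) : C) by
        refine (MonoidAlgebra.lift_single gC _ _).trans ?_
        rw [one_smul]
        exact congrArg Units.val (zpow_one _)]
    rw [← Ideal.span_singleton_mul_left_unit (a := m ⊗ₜ[k] (1 : A))
      (hmu ▸ (mu.isUnit.map (Algebra.TensorProduct.includeLeftRingHom : C →+* C ⊗[k] A)))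
      ((1 : C) ⊗ₜ[k] χ - ((mu⁻¹ : Cˣ) : C) ⊗ₜ[k] (1 : A))]
    congr 2
    simp [mul_sub, Algebra.TensorProduct.one_def, ← hmu]
  · refine Ideal.mem_span_pair.2 ⟨1, m ⊗ₜ[k] (1 : A), ?_⟩
    simp [TensorProduct.sub_tmul, TensorProduct.tmul_sub, mul_sub, Algebra.TensorProduct.one_def]
  · refine Ideal.mem_span_pair.2 ⟨((mu⁻¹ : Cˣ) : C) ⊗ₜ[k] (1 : A), -(((mu⁻¹ : Cˣ) : C) ⊗ₜ[k] (1 : A)), ?_⟩
    have e : ((mu⁻¹ : Cˣ) : C) * m = 1 := by rw [← hmu]; exact mu.inv_mul
    simp only [TensorProduct.sub_tmul, TensorProduct.tmul_sub, mul_sub, neg_mul, mul_one, one_mul,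
      Algebra.TensorProduct.one_def, Algebra.TensorProduct.tmul_mul_tmul, e]
    abel

end Groth.L16.SolvTorsor
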