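import Groth.Agent.L16.SolvTorsor.Step
import Groth.Agent.L16.GLTorsor.Main
import Groth.Agent.L08.TorusQuot.Affine

/-!
# The torsor algebra of a torsor under an affine group
-/

set_option autoImplicit false
set_option linter.style.haveILetI false
set_option backward.isDefEq.respectTransparency.types false
set_option backward.isDefEq.respectTransparency false

universe u

open CategoryTheory CategoryTheory.Limits MonoidalCategory CartesianMonoidalCategory MonObj AlgebraicGeometry
open scoped TensorProduct
open WithConv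
open Groth.L25.Bridge (P)
open Groth.L08.TorusQuot (SP toPt ofPt toPt_ofPt ofPt_toPt)
open Groth.L19.AlgGrpBasic.Assoc (existsUnique_translator)
open Groth.L27.Torsor (e12 e13 e23)
open Groth.L25.Actions (mul_act)

noncomputable section

namespace Groth.L16.SolvTorsor

variable {k : Type u} [Field k] {A : Type u} [CommRing A] [HopfAlgebra k A]

local notation "pt" => CoactBr.pt

theorem exists_pt_eq {R R' : Type u} [CommRing R] [CommRing R'] [Algebra k R] [Algebra k R']
    (u : CoactBr.sp k R' ⟶ CoactBr.sp k R) : ∃ φ : R →ₐ[k] R', pt φ = u := by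
  obtain ⟨f, hf⟩ := Spec.map_surjective u.left
  have hw := Over.w u
  rw [← hf] at hw
  change Spec.map f ≫ Spec.map (CommRingCat.ofHom (algebraMap k R)) = Spec.map (CommRingCat.ofHom (algebraMap k R')) at hw
  rw [← Spec.map_comp] at hw
  have hw' := congrArg CommRingCat.Hom.hom (Spec.map_injective hw)
  refine ⟨{ f.hom with commutes' := fun c => RingHom.congr_fun hw' c }, Over.OverMorphism.ext ?_⟩
  rw [CoactBr.pt_left]
  exact hf

/-- **The translator of a torsor over an affine base is a torsor algebra.** -/
theorem exists_torsor {G X Y : Over (Spec (CommRingCat.of k))} [GrpObj G] (eA : P k A ≅ G) [IsMonHom eA.hom]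
    (a : AlgGrp.Action G X) {φ : X ⟶ Y} (hsq : IsPullback a.act.left (snd G X).left φ.left φ.left)
    (B : Type u) [CommRing B] [Algebra k B] (C : Type u) [CommRing C] [Algebra B C] [Algebra k C]
    [IsScalarTower k B C] (j : CoactBr.sp k B ⟶ Y) (y : CoactBr.sp k C ⟶ X)
    (hy : IsPullback y.left (Spec.map (CommRingCat.ofHom (algebraMap B C))) φ.left j.left) :
    ∃ θ : A →ₐ[k] C ⊗[B] C, IsTorsor θ := by
  have hyj : y ≫ φ = pt ((Algebra.ofId B C).restrictScalars k) ≫ j := Over.OverMorphism.ext hy.w
  have hbase : ∀ (D : Type u) [CommRing D] [Algebra B D] [Algebra k D] [IsScalarTower k B D] (e : C →ₐ[B] D),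
      (pt (e.restrictScalars k) ≫ y) ≫ φ = pt ((Algebra.ofId B D).restrictScalars k) ≫ j := by
    intro D _ _ _ _ e
    rw [Category.assoc, hyj, ← Category.assoc, ← CoactBr.pt_comp]
    congr 2
    exact AlgHom.ext fun r => e.commutes r
  let iL : C →ₐ[B] C ⊗[B] C := Algebra.TensorProduct.includeLeft
  let iR : C →ₐ[B] C ⊗[B] C := Algebra.TensorProduct.includeRight
  let xL := pt (iL.restrictScalars k) ≫ y
  let xR := pt (iR.restrictScalars k) ≫ y
  obtain ⟨g, hg, huniq⟩ := existsUnique_translator a hsq xR xL ((hbase _ iR).trans (hbase _ iL).symm)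
  let θ : A →ₐ[k] C ⊗[B] C := (ofPt (g ≫ eA.inv)).ofConv
  have hθ : toPt (toConv θ) ≫ eA.hom = g := by
    rw [show toConv θ = ofPt (g ≫ eA.inv) from rfl, toPt_ofPt, Category.assoc, eA.inv_hom_id, Category.comp_id]
  refine ⟨θ, ⟨?_, ?_⟩⟩
  · -- the inverse of the shearing map
    let Q := C ⊗[k] A
    let u : A →ₐ[k] Q := Algebra.TensorProduct.includeRight
    let gu : CoactBr.sp k Q ⟶ G := toPt (toConv u) ≫ eA.hom
    let iC : C →ₐ[C] Q := Algebra.ofId C Q
    let xQ : CoactBr.sp k Q ⟶ X := pt (iC.restrictScalars k) ≫ y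
    let x' : CoactBr.sp k Q ⟶ X := lift gu xQ ≫ a.act
    have hx' : x' ≫ φ = pt (((iC.restrictScalars k)).comp ((Algebra.ofId B C).restrictScalars k)) ≫ j := by
      rw [Category.assoc, show a.act ≫ φ = snd G X ≫ φ from Over.OverMorphism.ext hsq.w, lift_snd_assoc,
        Category.assoc, hyj, CoactBr.pt_comp, Category.assoc]
    let w₀ : Spec (CommRingCat.of Q) ⟶ Spec (CommRingCat.of C) := hy.lift x'.left
      (Spec.map (CommRingCat.ofHom ((iC.restrictScalars k).comp ((Algebra.ofId B C).restrictScalars k)).toRingHom))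
      (congrArg CommaMorphism.left hx')
    let w : CoactBr.sp k Q ⟶ CoactBr.sp k C := Over.homMk w₀ (by
      rw [← Over.w y, ← Category.assoc, hy.lift_fst]
      exact Over.w x')
    obtain ⟨γ, hγ⟩ := exists_pt_eq w
    have hwy : w ≫ y = x' := Over.OverMorphism.ext (hy.lift_fst _ _ _)
    have hwB : w ≫ pt ((Algebra.ofId B C).restrictScalars k) =
        pt ((iC.restrictScalars k).comp ((Algebra.ofId B C).restrictScalars k)) :=
      Over.OverMorphism.ext (hy.lift_snd _ _ _)
    rw [← hγ, ← CoactBr.pt_comp] at hwB
    have hγB := CoactBr.pt_injective hwB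
    let γB : C →ₐ[B] Q := { γ.toRingHom with
      commutes' := fun b => by
        refine (AlgHom.congr_fun hγB b).trans ?_
        rfl }
    let inv : C ⊗[B] C →ₐ[C] Q := Algebra.TensorProduct.lift iC γB fun _ _ => Commute.all _ _
    have hinvθ : (inv.restrictScalars k).comp θ = u := by
      have h1 : pt (inv.restrictScalars k) ≫ g = gu := by
        have hL : pt (inv.restrictScalars k) ≫ xL = xQ := by
          rw [← Category.assoc, ← CoactBr.pt_comp]
          congr 2
          exact AlgHom.ext fun c => by simp [inv, iL, iC]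
        have hR : pt (inv.restrictScalars k) ≫ xR = x' := by
          rw [← Category.assoc, ← CoactBr.pt_comp, ← hwy, ← hγ]
          congr 2
          exact AlgHom.ext fun c => by simp [inv, iR, γB]
        refine (existsUnique_translator a hsq x' xQ ?_).unique ?_ rfl
        · rw [hx', Category.assoc, hyj, CoactBr.pt_comp, Category.assoc]
        · rw [← hL, ← hR, ← comp_lift, Category.assoc, hg]
      have h2 := congrArg (· ≫ eA.inv) h1
      simp only [gu, Category.assoc, eA.hom_inv_id, Category.comp_id] at h2
      have h3 := congrArg (fun z => (ofPt z).ofConv) h2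
      simp only [ofPt_toPt] at h3
      refine Eq.trans ?_ h3
      rw [← hθ, Category.assoc, eA.hom_inv_id, Category.comp_id,
        show pt (inv.restrictScalars k) = Groth.L08.TorusQuot.spA (inv.restrictScalars k) from
          Over.OverMorphism.ext rfl, ← Groth.L08.TorusQuot.toPt_post, ofPt_toPt]
      rfl
    have hinv1 : ∀ v, inv (shear θ v) = v := by
      intro v
      induction v with
      | zero => simp
      | add v v' hv hv' => simp only [map_add, hv, hv']
      | tmul c t =>
        rw [shear_tmul, map_mul, show inv (θ t) = u t from AlgHom.congr_fun hinvθ t]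
        rw [show inv (c ⊗ₜ[B] (1 : C)) = c ⊗ₜ[k] (1 : A) from inv.commutes c]
        show (c ⊗ₜ[k] (1 : A)) * ((1 : C) ⊗ₜ[k] t) = c ⊗ₜ[k] t
        rw [Algebra.TensorProduct.tmul_mul_tmul, _root_.mul_one, _root_.one_mul]
    have hR2 : ∀ c : C, shear θ (γ c) = iR c := by
      intro c
      let T := (shear θ).restrictScalars k
      have hTu : pt T ≫ gu = g := by
        rw [← hθ, show pt T = Groth.L08.TorusQuot.spA T from Over.OverMorphism.ext rfl, ← Category.assoc,
          ← Groth.L08.TorusQuot.toPt_post]
        congr 2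
        refine WithConv.ofConv_injective (AlgHom.ext fun t => ?_)
        show shear θ ((1 : C) ⊗ₜ[k] t) = θ t
        rw [shear_tmul, show ((1 : C) ⊗ₜ[B] (1 : C)) = 1 from rfl, _root_.one_mul]
      have hTC : T.comp (iC.restrictScalars k) = iL.restrictScalars k :=
        AlgHom.ext fun c => (shear θ).commutes c
      have e : pt (T.comp γ) = pt (iR.restrictScalars k) := by
        refine Over.OverMorphism.ext (hy.hom_ext ?_ ?_)
        · refine congrArg CommaMorphism.left (show pt (T.comp γ) ≫ y = pt (iR.restrictScalars k) ≫ y from ?_)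
          rw [CoactBr.pt_comp, Category.assoc, hγ, hwy, ← Category.assoc, comp_lift, hTu,
            ← Category.assoc, ← CoactBr.pt_comp, hTC, hg]
        · refine congrArg CommaMorphism.left (show pt (T.comp γ) ≫ pt ((Algebra.ofId B C).restrictScalars k) =
            pt (iR.restrictScalars k) ≫ pt ((Algebra.ofId B C).restrictScalars k) from ?_)
          rw [← CoactBr.pt_comp, ← CoactBr.pt_comp, AlgHom.comp_assoc, hγB, ← AlgHom.comp_assoc, hTC]
          congr 1
          exact AlgHom.ext fun b => (iL.commutes b).trans (iR.commutes b).symm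
      exact AlgHom.congr_fun (CoactBr.pt_injective e) c
    refine ⟨Function.LeftInverse.injective (g := inv) hinv1, fun t => ⟨inv t, ?_⟩⟩
    induction t with
    | zero => simp
    | add t t' ht ht' => simp only [map_add, ht, ht']
    | tmul c c' =>
      rw [show inv (c ⊗ₜ[B] c') = iC c * γ c' from Algebra.TensorProduct.lift_tmul .., map_mul, hR2,
        show shear θ (iC c) = algebraMap C (C ⊗[B] C) c from (shear θ).commutes c]
      simp [iR, Algebra.TensorProduct.algebraMap_apply]
  · have key : ∀ e : C ⊗[B] C →ₐ[B] C ⊗[B] (C ⊗[B] C),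
        lift (pt (e.restrictScalars k) ≫ g) (pt ((e.comp iL).restrictScalars k) ≫ y) ≫ a.act =
          pt ((e.comp iR).restrictScalars k) ≫ y := by
      intro e
      have e1 : ∀ i : C →ₐ[B] C ⊗[B] C, pt ((e.comp i).restrictScalars k) =
          pt (e.restrictScalars k) ≫ pt (i.restrictScalars k) := fun i => by
        rw [← CoactBr.pt_comp]; rfl
      rw [e1, e1, Category.assoc, Category.assoc, ← comp_lift, Category.assoc, hg]
    have h1 : (e13 B C).comp iL = (e12 B C).comp iL := by ext; simp [iL]
    have h2 : (e13 B C).comp iR = (e23 B C).comp iR := by ext; simp [iR]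
    have h3 : (e12 B C).comp iR = (e23 B C).comp iL := by ext; simp [iL, iR]
    have hc : pt ((e13 B C).restrictScalars k) ≫ g =
        (pt ((e23 B C).restrictScalars k) ≫ g) * (pt ((e12 B C).restrictScalars k) ≫ g) := by
      refine (existsUnique_translator a hsq (pt (((e13 B C).comp iR).restrictScalars k) ≫ y)
        (pt (((e13 B C).comp iL).restrictScalars k) ≫ y) ((hbase _ _).trans (hbase _ _).symm)).unique (key _) ?_
      rw [mul_act, h1, key, h3, key, h2]
    have hn : ∀ e : C ⊗[B] C →ₐ[B] C ⊗[B] (C ⊗[B] C), pt (e.restrictScalars k) ≫ g =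
        toPt (toConv ((e.restrictScalars k).comp θ)) ≫ eA.hom := by
      intro e
      rw [← hθ, show pt (e.restrictScalars k) = Groth.L08.TorusQuot.spA (e.restrictScalars k) from
        Over.OverMorphism.ext rfl, ← Category.assoc, ← Groth.L08.TorusQuot.toPt_post]
      rfl
    rw [hn, hn, hn, ← MonObj.mul_comp, cancel_mono] at hc
    refine (ofPt_toPt _).symm.trans ((congrArg ofPt hc).trans ?_)
    rw [← map_mul, ofPt_toPt]

end Groth.L16.SolvTorsor
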