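import Groth.Agent.L16.SolvTorsor.Retraction
import Groth.Agent.L16.SolvTorsor.Translator
import Groth.Agent.L02.CAlg.EssFP
import Groth.Agent.L16.AssocBundle.Props
import Groth.Agent.L11.Magnet.Factor
import Groth.Agent.S0082
import Groth.Agent.L16.SecComp.Smooth

/-!
# Torsors under connected solvable groups are Zariski locally trivial
-/

set_option autoImplicit false
set_option linter.style.haveILetI false
set_option backward.isDefEq.respectTransparency.types false
set_option backward.isDefEq.respectTransparency false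

universe u

open CategoryTheory CategoryTheory.Limits MonoidalCategory CartesianMonoidalCategory MonObj AlgebraicGeometry
open scoped TensorProduct
open WithConv
open Groth.L25.Bridge (P)
open Groth.L27.Torsor (Cov)

noncomputable section

namespace Groth.L16.SolvTorsor

/-- An open neighbourhood with a section, from the torsor algebra at the local ring. -/
theorem exists_nhd_section {k : Type u} [Field k] [CharZero k] [IsAlgClosed k]
    {G X Y : Over (Spec (CommRingCat.of k))} [GrpObj G] [IsAffine G.left] [LocallyOfFiniteType G.hom]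
    [Smooth G.hom] [ConnectedSpace G.left] (hsol : Red.IsSolvableGrp G) (a : AlgGrp.Action G X) {φ : X ⟶ Y}
    (hsq : IsPullback a.act.left (snd G X).left φ.left φ.left)
    [IsAffineHom φ.left] [Flat φ.left] [Surjective φ.left] [LocallyOfFinitePresentation φ.left] (x : Y.left) :
    ∃ (Z : Scheme.{u}) (i : Z ⟶ Y.left), IsOpenImmersion i ∧ x ∈ Set.range i ∧
      ∃ t : Z ⟶ X.left, t ≫ φ.left = i := by
  obtain ⟨A, _, _, hft, hred, hconn, hsolv, ⟨eG⟩⟩ := Groth.L08.Borel.exists_hopf_data hsol
  let eA : P k A ≅ G := (Grp.forget _).mapIso eG.symm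
  haveI : IsMonHom eA.hom := eG.inv.hom.isMonHom_hom
  obtain ⟨U, hU, hxU, -⟩ := exists_isAffineOpen_mem_and_subset (x := x) (U := ⊤) trivial
  let ψ : CommRingCat.of k ⟶ Γ(Y.left, U) :=
    (Scheme.ΓSpecIso (CommRingCat.of k)).inv ≫ Y.hom.appLE ⊤ U le_top
  have hψ : hU.fromSpec ≫ Y.hom = Spec.map ψ := by
    rw [← IsAffineOpen.SpecMap_appLE_fromSpec Y.hom (isAffineOpen_top _) hU le_top,
      IsAffineOpen.fromSpec_top, Scheme.isoSpec_Spec_inv, ← Spec.map_comp]
  let W := pullback φ.left hU.fromSpec
  haveI : IsAffine W := isAffine_of_isAffineHom (pullback.snd φ.left hU.fromSpec)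
  let π : W ⟶ Spec Γ(Y.left, U) := pullback.snd φ.left hU.fromSpec
  let χ : Γ(Y.left, U) ⟶ Γ(W, ⊤) := (Scheme.ΓSpecIso Γ(Y.left, U)).inv ≫ π.appTop
  have hχ : W.isoSpec.inv ≫ π = Spec.map χ := by
    rw [← Scheme.isoSpec_inv_naturality, Spec.map_comp]
    congr 1
    exact Scheme.isoSpec_Spec_inv _
  let B := Γ(Y.left, U)
  let C := Γ(W, ⊤)
  letI : Algebra k B := ψ.hom.toAlgebra
  letI : Algebra B C := χ.hom.toAlgebra
  letI : Algebra k C := (χ.hom.comp ψ.hom).toAlgebra
  haveI : IsScalarTower k B C := IsScalarTower.of_algebraMap_eq' rfl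
  haveI hff : Module.FaithfullyFlat B C := by
    rw [← RingHom.faithfullyFlat_algebraMap_iff]
    refine RingHom.FaithfullyFlat.iff_flat_and_comap_surjective.2 ⟨(HasRingHomProperty.Spec_iff (P := @Flat)).1 ?_, ?_⟩
    · show Flat (Spec.map χ)
      rw [← hχ]; infer_instance
    · have hsurj : Surjective (Spec.map χ) := by rw [← hχ]; infer_instance
      exact hsurj.1
  haveI : Algebra.FinitePresentation B C := by
    have h : (χ.hom).FinitePresentation := by
      refine (HasRingHomProperty.Spec_iff (P := @LocallyOfFinitePresentation)).1 ?_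
      rw [← hχ]; infer_instance
    exact h
  -- the local ring
  let p := (hU.primeIdealOf ⟨x, hxU⟩).asIdeal
  let O := Localization.AtPrime p
  let D := O ⊗[B] C
  haveI : Module.FaithfullyFlat O D := inferInstance
  let j : CoactBr.sp k O ⟶ Y :=
    Over.homMk (Spec.map (CommRingCat.ofHom (algebraMap B O)) ≫ hU.fromSpec) (by
      show (Spec.map (CommRingCat.ofHom (algebraMap B O)) ≫ hU.fromSpec) ≫ Y.hom =
        Spec.map (CommRingCat.ofHom (algebraMap k O))
      rw [Category.assoc, hψ, ← Spec.map_comp, IsScalarTower.algebraMap_eq k B O]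
      rfl)
  have hsqW : IsPullback (W.isoSpec.inv ≫ pullback.fst φ.left hU.fromSpec) (Spec.map χ) φ.left hU.fromSpec :=
    IsPullback.of_iso (IsPullback.of_hasPullback φ.left hU.fromSpec) W.isoSpec (Iso.refl _) (Iso.refl _) (Iso.refl _)
      (by simp) (by simp [← hχ, π]) (by simp) (by simp)
  let right : C →ₐ[B] D := Algebra.TensorProduct.includeRight
  have hpush : IsPullback (Spec.map (CommRingCat.ofHom right.toRingHom))
      (Spec.map (CommRingCat.ofHom (algebraMap O D))) (Spec.map χ) (Spec.map (CommRingCat.ofHom (algebraMap B O))) := by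
    refine IsPullback.of_iso (IsPullback.of_hasPullback (Spec.map (CommRingCat.ofHom (algebraMap B O)))
      (Spec.map χ)) (pullbackSpecIso B O C) (Iso.refl _) (Iso.refl _) (Iso.refl _) ?_ ?_ ?_ ?_ |>.flip
    · simp only [Iso.refl_hom, Category.comp_id]
      exact (pullbackSpecIso_hom_fst' B O C).symm
    · simp only [Iso.refl_hom, Category.comp_id]
      exact (pullbackSpecIso_hom_snd B O C).symm
    · simp
    · simp
  have htot := hpush.paste_horiz hsqW
  let y : CoactBr.sp k D ⟶ X :=
    Over.homMk (Spec.map (CommRingCat.ofHom right.toRingHom) ≫ W.isoSpec.inv ≫ pullback.fst φ.left hU.fromSpec) (by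
      rw [← Over.w φ, ← Category.assoc, htot.w, Category.assoc]
      show Spec.map (CommRingCat.ofHom (algebraMap O D)) ≫ (Spec.map _ ≫ hU.fromSpec) ≫ Y.hom = _
      rw [show (Spec.map (CommRingCat.ofHom (algebraMap B O)) ≫ hU.fromSpec) ≫ Y.hom =
        Spec.map (CommRingCat.ofHom (algebraMap k O)) from Over.w j, ← Spec.map_comp, ← CommRingCat.ofHom_comp,
        ← IsScalarTower.algebraMap_eq k O D]
      rfl)
  obtain ⟨θ, hθ⟩ := exists_torsor eA a hsq O D j y htot
  obtain ⟨σ⟩ := exists_retraction (k := k) hconn D θ hθ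
  -- spreading out
  let σC : C →ₐ[B] O := (σ.restrictScalars B).comp right
  obtain ⟨s, hs, ρ, -⟩ := Groth.L02.EssFP.exists_algHom_away p.primeCompl O σC
  let o : Spec (CommRingCat.of (Localization.Away s)) ⟶ Y.left :=
    Spec.map (CommRingCat.ofHom (algebraMap B (Localization.Away s))) ≫ hU.fromSpec
  refine ⟨_, o, inferInstanceAs (IsOpenImmersion (_ ≫ _)), ?_,
    Spec.map (CommRingCat.ofHom ρ.toRingHom) ≫ W.isoSpec.inv ≫ pullback.fst φ.left hU.fromSpec, ?_⟩
  · have hmem : hU.primeIdealOf ⟨x, hxU⟩ ∈
        Set.range (PrimeSpectrum.comap (algebraMap B (Localization.Away s))) := by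
      rw [PrimeSpectrum.localization_away_comap_range (Localization.Away s) s]
      exact hs
    obtain ⟨q, hq⟩ := hmem
    refine ⟨q, ?_⟩
    refine (Scheme.Hom.comp_apply (Spec.map (CommRingCat.ofHom (algebraMap B (Localization.Away s))))
      hU.fromSpec q).trans ?_
    exact (congrArg hU.fromSpec hq).trans (hU.fromSpec_primeIdealOf ⟨x, hxU⟩)
  · rw [Category.assoc, hsqW.w, ← Category.assoc, ← Spec.map_comp]
    exact congrArg (fun f => Spec.map (CommRingCat.ofHom f) ≫ hU.fromSpec) (RingHom.ext fun b => ρ.commutes b)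

theorem isLocallyTrivial_zariski {k : Type u} [Field k] [CharZero k] [IsAlgClosed k]
    {G X Y : Over (Spec (CommRingCat.of k))} [GrpObj G] [IsAffine G.left] [LocallyOfFiniteType G.hom]
    [Smooth G.hom] [ConnectedSpace G.left] (hsol : Red.IsSolvableGrp G) (a : AlgGrp.Action G X) {φ : X ⟶ Y}
    (hsq : IsPullback a.act.left (snd G X).left φ.left φ.left)
    (hloc : NonAbH1.IsLocallyTrivialFor Scheme.fpqcPrecoverage (Over.mk φ.left : Over Y.left)) :
    NonAbH1.IsLocallyTrivialFor Scheme.zariskiPrecoverage (Over.mk φ.left : Over Y.left) := by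
  haveI := Groth.L25.Actions.descendsAlong_flat_fpqc.{u}
  haveI := Groth.Agent.S0082.result.{u}
  haveI : IsAffineHom G.hom := isAffineHom_of_isAffine _
  haveI : Flat G.hom := Groth.L11.Magnet.flat_of_field G
  haveI : LocallyOfFinitePresentation G.hom := inferInstance
  have esnd : (snd G X).left = pullback.snd G.hom X.hom := by simp
  haveI : IsAffineHom φ.left := Groth.L16.AssocBundle.of_kernelPair @IsAffineHom hsq hloc
    (by rw [esnd]; exact MorphismProperty.pullback_snd _ _ inferInstance)
  haveI : Flat φ.left := Groth.L16.AssocBundle.of_kernelPair @Flat hsq hloc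
    (by rw [esnd]; exact MorphismProperty.pullback_snd _ _ inferInstance)
  haveI : Surjective φ.left := Groth.L16.AssocBundle.of_kernelPair @Surjective hsq hloc
    (by rw [esnd]; exact MorphismProperty.pullback_snd _ _ (Groth.L25.Actions.surjective_grp G))
  haveI : LocallyOfFinitePresentation φ.left := Groth.L16.AssocBundle.of_kernelPair @LocallyOfFinitePresentation hsq hloc
    (by rw [esnd]; exact MorphismProperty.pullback_snd _ _ inferInstance)
  choose Z i hi hx t ht using fun x => exists_nhd_section hsol a hsq x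
  refine ⟨Presieve.ofArrows Z i, ?_, ?_⟩
  · rw [Scheme.zariskiPrecoverage, Scheme.ofArrows_mem_precoverage_iff]
    exact ⟨fun x => ⟨x, hx x⟩, fun x => hi x⟩
  · rintro _ _ ⟨x⟩
    exact ⟨t x, ht x⟩

end Groth.L16.SolvTorsor
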