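import Groth.Agent.L16.SolvTorsor.Cut
import Groth.Agent.L01.UnipSplit.Main
import Groth.Agent.L08.Borel.SolvTori
import Groth.Agent.L08.Flag

/-!
# Torsor algebras under connected solvable groups have points over local bases
-/

set_option autoImplicit false
set_option linter.style.haveILetI false
set_option backward.isDefEq.respectTransparency.types false

universe u

open TensorProduct WithConv
open Groth.L08 (fAct apply_cf cf_counit_apply hasFlag_of_isUnipotent)
open Groth.L01.Unip.Coconn (Prim)

noncomputable section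

namespace Groth.L16.SolvTorsor

variable {k : Type u} [Field k]

/-- A nontrivial quotient of a unipotent Hopf algebra has a nonzero primitive element. -/
theorem exists_prim_of_surjective {A A' : Type u} [CommRing A] [HopfAlgebra k A] [CommRing A'] [HopfAlgebra k A']
    (hU : HopfRep.IsUnipotent k A) (q : A →ₐc[k] A') (hq : Function.Surjective q)
    (hne : ∃ a : A', a ≠ algebraMap k A' (Coalgebra.counit (R := k) a)) : ∃ p : A', p ≠ 0 ∧ Prim (k := k) p := by
  classical
  obtain ⟨a₀, ha₀⟩ := hne
  obtain ⟨b₀, rfl⟩ := hq a₀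
  obtain ⟨m, F, h0, hm, hst⟩ := hasFlag_of_isUnipotent hU b₀
  let qL : A →ₗ[k] A' := (q : A →ₐ[k] A').toLinearMap
  let K : Submodule k A' := Submodule.span k {1}
  have hnot : ∃ i, ¬ (F i).map qL ≤ K := by
    refine ⟨m, fun h => ha₀ ?_⟩
    obtain ⟨c, hc⟩ := Submodule.mem_span_singleton.1 (h ⟨b₀, hm, rfl⟩)
    have h1 := congrArg (Coalgebra.counit (R := k)) hc
    rw [map_smul, Bialgebra.counit_one, smul_eq_mul, mul_one] at h1
    rw [show q b₀ = qL b₀ from rfl, ← hc, map_smul, Bialgebra.counit_one, smul_eq_mul, mul_one,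
      Algebra.algebraMap_eq_smul_one]
  obtain ⟨v', hv', hvK⟩ := SetLike.not_le_iff_exists.1 (Nat.find_spec hnot)
  obtain ⟨j, hj⟩ : ∃ j, Nat.find hnot = j + 1 := by
    refine Nat.exists_eq_succ_of_ne_zero fun h => hvK ?_
    rw [h, h0, Submodule.map_bot, Submodule.mem_bot] at hv'
    rw [hv']; exact zero_mem _
  have hjK : (F j).map qL ≤ K := not_not.1 (Nat.find_min hnot (m := j) (by omega))
  obtain ⟨g, rfl, hstep⟩ := hst j
  rw [hj] at hv'
  obtain ⟨v, hv, rfl⟩ := hv'
  let f : A' := qL v - algebraMap k A' (Coalgebra.counit (R := k) (qL v))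
  have hnat : ∀ (φ : A' →ₗ[k] k) (w : A), fAct A' φ (qL w) = qL (fAct A (φ ∘ₗ qL) w) := by
    intro φ w
    have e : Coalgebra.comul (R := k) (qL w) = TensorProduct.map qL qL (Coalgebra.comul (R := k) w) :=
      (CoalgHomClass.map_comp_comul_apply q w).symm
    rw [Groth.L08.fAct_apply, Groth.L08.fAct_apply]
    show TensorProduct.rid k A' (φ.lTensor A' (Coalgebra.comul (R := k) (qL w))) =
      qL (TensorProduct.rid k A ((φ ∘ₗ qL).lTensor A (Coalgebra.comul (R := k) w)))
    rw [e]
    induction Coalgebra.comul (R := k) w with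
    | zero => simp
    | add x y hx hy => simp only [map_add, hx, hy]
    | tmul x y => simp
  have hf : ∀ φ : A' →ₗ[k] k, fAct A' φ f = φ 1 • f + φ f • 1 := by
    intro φ
    obtain ⟨c, hc⟩ := Submodule.mem_span_singleton.1 (hjK ⟨_, hstep v hv (φ ∘ₗ qL), rfl⟩)
    have h1 : fAct A' φ (qL v) = φ 1 • qL v + c • 1 := by
      rw [hnat, hc, map_sub, map_smul, LinearMap.comp_apply, show qL 1 = 1 from map_one (q : A →ₐ[k] A')]
      abel
    have h2 := congrArg (Coalgebra.counit (R := k)) h1
    have h3 : Coalgebra.counit (R := k) (fAct A' φ (qL v)) = φ (qL v) := by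
      have h := apply_cf (A := A') φ (Coalgebra.counit (R := k)) (qL v)
      rw [← h, cf_counit_apply]
    rw [h3, map_add, map_smul, map_smul, Bialgebra.counit_one, smul_eq_mul, smul_eq_mul, mul_one] at h2
    have h4 : fAct A' φ (1 : A') = φ 1 • 1 := by
      change TensorProduct.rid k A' (φ.lTensor A' (Coalgebra.comul (R := k) (1 : A'))) = _
      rw [Bialgebra.comul_one, Algebra.TensorProduct.one_def]
      simp
    simp only [f, map_sub, Algebra.algebraMap_eq_smul_one, map_smul, h4, h1, h2, smul_eq_mul, smul_sub,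
      add_smul, sub_smul, smul_smul]
    module
  refine ⟨f, fun h => hvK ?_, ?_⟩
  · rw [sub_eq_zero] at h
    rw [h, Algebra.algebraMap_eq_smul_one]
    exact Submodule.smul_mem _ _ (Submodule.mem_span_singleton_self _)
  · refine (TensorProduct.equivFinsuppOfBasisRight (Module.Basis.ofVectorSpace k A')).injective
      (Finsupp.ext fun i => ?_)
    rw [map_add, Finsupp.add_apply]
    simp only [TensorProduct.equivFinsuppOfBasisRight_apply, LinearMap.lTensor_tmul, TensorProduct.rid_tmul]
    exact hf ((Module.Basis.ofVectorSpace k A').coord i)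

variable {B : Type u} [CommRing B] [Algebra k B]

/-- Unipotent case. -/
theorem exists_retraction_unipotent [CharZero k] {A : Type u} [CommRing A] [HopfAlgebra k A] [Algebra.FiniteType k A]
    (hU : HopfRep.IsUnipotent k A) (I : Ideal A) :
    ∀ (A' : Type u) [CommRing A'] [HopfAlgebra k A'] (π : A →ₐc[k] A'), Function.Surjective π →
      RingHom.ker (π : A →+* A') = I →
      ∀ (C : Type u) [CommRing C] [Algebra B C] [Algebra k C] [IsScalarTower k B C] [Module.FaithfullyFlat B C]
        (θ : A' →ₐ[k] C ⊗[B] C), IsTorsor θ → Nonempty (C →ₐ[B] B) := by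
  haveI : IsNoetherianRing A := Algebra.FiniteType.isNoetherianRing k A
  induction I using IsNoetherian.induction with
  | hgt I ih =>
  intro A' _ _ π hπ hI C _ _ _ _ _ θ hθ
  haveI : Algebra.FiniteType k A' := Algebra.FiniteType.of_surjective (π : A →ₐ[k] A') hπ
  by_cases htriv : ∀ a : A', a = algebraMap k A' (Coalgebra.counit (R := k) a)
  · exact exists_retraction_of_trivial hθ htriv
  obtain ⟨p, hp0, hp⟩ := exists_prim_of_surjective hU π hπ (not_forall.1 htriv)
  haveI := isHopfIdeal_span_prim hp
  obtain ⟨z, hff, θ', hθ'⟩ := exists_cut_prim hθ hp hp0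
  let q : A' →ₐc[k] A' ⧸ Ideal.span {p} := Bialgebra.Quotient.mkBialgHom (R := k) _
  have hlt : I < RingHom.ker (q.comp π : A →+* A' ⧸ Ideal.span {p}) := by
    refine lt_of_le_of_ne (fun a ha => ?_) fun e => ?_
    · rw [← hI] at ha
      show q (π a) = 0
      rw [show π a = 0 from ha, map_zero]
    · obtain ⟨a, rfl⟩ := hπ p
      have : a ∈ I := e ▸ (show q (π a) = 0 from Ideal.Quotient.eq_zero_iff_mem.2 (Ideal.mem_span_singleton_self _))
      rw [← hI] at this
      exact hp0 this
  obtain ⟨σ⟩ := ih _ hlt (A' ⧸ Ideal.span {p}) (q.comp π)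
    (Ideal.Quotient.mk_surjective.comp hπ) rfl (C ⧸ Ideal.span {z}) θ' hθ'
  exact ⟨σ.comp (Ideal.Quotient.mkₐ B _)⟩

theorem isHopfIdeal_span_groupLike {A : Type u} [CommRing A] [HopfAlgebra k A] {χ : A} (hχ : IsGroupLikeElem k χ) :
    (Ideal.span {χ - 1}).IsHopfIdeal k := by
  have h0 : Ideal.Quotient.mkₐ k (Ideal.span {χ - 1}) χ = 1 := by
    rw [← map_one (Ideal.Quotient.mkₐ k (Ideal.span {χ - 1}))]
    exact Ideal.Quotient.eq.2 (Ideal.mem_span_singleton_self _)
  refine isHopfIdeal_span _ ?_ ?_ ?_
  · rw [map_sub, hχ.counit_eq_one, Bialgebra.counit_one, sub_self]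
  · rw [map_sub, hχ.comul_eq_tmul_self, Bialgebra.comul_one, map_sub, Algebra.TensorProduct.map_tmul, h0, map_one,
      ← Algebra.TensorProduct.one_def, sub_self]
  · rw [map_sub, HopfAlgebra.antipode_one]
    refine Ideal.mem_span_singleton'.2 ⟨-HopfAlgebraStruct.antipode (R := k) χ, ?_⟩
    linear_combination -hχ.antipode_mul_cancel

/-- **Torsor algebras under connected solvable groups over a local base have points.** -/
theorem exists_retraction [CharZero k] [IsAlgClosed k] {A : Type u} [CommRing A] [HopfAlgebra k A]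
    [Algebra.FiniteType k A] [_root_.IsReduced A] (hconn : ∀ e : A, IsIdempotentElem e → e = 0 ∨ e = 1)
    [Group.IsSolvable (WithConv (A →ₐ[k] k))] [IsLocalRing B]
    (C : Type u) [CommRing C] [Algebra B C] [Algebra k C] [IsScalarTower k B C] [Module.FaithfullyFlat B C]
    (θ : A →ₐ[k] C ⊗[B] C) (hθ : IsTorsor θ) : Nonempty (C →ₐ[B] B) := by
  classical
  obtain ⟨B₀, _, _, ψ, J, _, r, n, hψ, -, hJ, hU, hr, ⟨e⟩⟩ := Groth.L08.Borel.exists_retraction (k := k) (A := A) hconn
  let M := Multiplicative (Fin n → ℤ)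
  let δ : Fin n → M := fun i => Multiplicative.ofAdd (Pi.single i 1)
  let eψ : MonoidAlgebra k M →ₐc[k] A := ψ.comp (e.symm : MonoidAlgebra k M →ₐc[k] B₀)
  let χ : Fin n → A := fun i => eψ (MonoidAlgebra.single (δ i) 1)
  have hχ : ∀ i, IsGroupLikeElem k (χ i) := fun i => (MonoidAlgebra.isGroupLikeElem_single_one _).map eψ
  let ρ : Fin n → (A →ₐc[k] MonoidAlgebra k (Multiplicative ℤ)) := fun j =>
    (MonoidAlgebra.mapDomainBialgHom k
      ((Pi.evalAddMonoidHom (fun _ : Fin n => ℤ) j).toMultiplicative : M →* Multiplicative ℤ)).comp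
      ((e : B₀ →ₐc[k] MonoidAlgebra k M).comp r)
  have hρ : ∀ i j, ρ j (χ i) = MonoidAlgebra.single (Multiplicative.ofAdd ((Pi.single i 1 : Fin n → ℤ) j)) (1 : k) := by
    intro i j
    show MonoidAlgebra.mapDomainBialgHom k _ (e (r (ψ (e.symm (MonoidAlgebra.single (δ i) 1))))) = _
    rw [show r (ψ (e.symm (MonoidAlgebra.single (δ i) 1))) = e.symm (MonoidAlgebra.single (δ i) 1) from
      congrArg (fun f : B₀ →ₐc[k] B₀ => f _) hr, e.apply_symm_apply]
    simp [δ, M]
  -- the induction over the characters
  suffices H : ∀ (d m : ℕ), n ≤ m + d → ∀ (A' : Type u) [CommRing A'] [HopfAlgebra k A'] (π : A →ₐc[k] A'),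
      Function.Surjective π → (∀ i : Fin n, (i : ℕ) < m → π (χ i) = 1) →
      (∀ j : Fin n, m ≤ (j : ℕ) → ∀ a, π a = 0 → ρ j a = 0) →
      ∀ (C : Type u) [CommRing C] [Algebra B C] [Algebra k C] [IsScalarTower k B C] [Module.FaithfullyFlat B C]
        (θ : A' →ₐ[k] C ⊗[B] C), IsTorsor θ → Nonempty (C →ₐ[B] B) by
    exact H n 0 (by omega) A (BialgHom.id k A) (fun a => ⟨a, rfl⟩) (fun i h => absurd h (by omega))
      (fun j _ a ha => by rw [show a = 0 from ha, map_zero]) C θ hθ
  intro d
  induction d with
  | zero =>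
    intro m hm A' _ _ π hπ hone _ C _ _ _ _ _ θ hθ
    let πA : A →ₐ[k] A' := π
    have hJπ : J ≤ RingHom.ker πA := by
      have hgen : ∀ x : MonoidAlgebra k M, π (eψ x) = algebraMap k A' (Coalgebra.counit (R := k) x) := by
        let K : Submonoid M :=
          { carrier := {g | π (eψ (MonoidAlgebra.single g 1)) = 1}
            one_mem' := by
              show π (eψ (MonoidAlgebra.single (1 : M) 1)) = 1
              rw [← MonoidAlgebra.one_def, map_one, map_one]
            mul_mem' := fun {a b} (ha : _ = 1) (hb : _ = 1) => by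
              show π (eψ (MonoidAlgebra.single (a * b) (1 : k))) = 1
              rw [show MonoidAlgebra.single (a * b) (1 : k) = MonoidAlgebra.single a 1 * MonoidAlgebra.single b 1 by
                rw [MonoidAlgebra.single_mul_single, mul_one], map_mul, map_mul, ha, hb, one_mul] }
        have hinv : ∀ g ∈ K, g⁻¹ ∈ K := fun g (hg : _ = 1) => by
          show π (eψ (MonoidAlgebra.single g⁻¹ (1 : k))) = 1
          have h1 : π (eψ (MonoidAlgebra.single g⁻¹ (1 : k))) * π (eψ (MonoidAlgebra.single g 1)) = 1 := by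
            rw [← map_mul, ← map_mul, MonoidAlgebra.single_mul_single, inv_mul_cancel, mul_one,
              ← MonoidAlgebra.one_def, map_one, map_one]
          rwa [hg, mul_one] at h1
        have hall : ∀ g : M, g ∈ K := by
          intro g
          let K' : Subgroup M := { K with inv_mem' := fun h => hinv _ h }
          have : g = ∏ i, δ i ^ (g.toAdd i) := by
            apply Multiplicative.toAdd.injective
            rw [toAdd_prod]
            rw [Finset.sum_congr rfl (fun c _ => show Multiplicative.toAdd (δ c ^ g.toAdd c) =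
              g.toAdd c • (Pi.single c 1 : Fin n → ℤ) from rfl)]
            funext l
            simp [Finset.sum_apply, Pi.single_apply]
          rw [this]
          exact (prod_mem (fun i _ => zpow_mem (show δ i ∈ K' from hone i (by omega)) _) : _ ∈ K')
        intro x
        induction x using MonoidAlgebra.induction_linear with
        | zero => simp
        | add x y hx hy => rw [map_add, map_add, map_add, map_add, hx, hy]
        | single g c =>
          rw [show MonoidAlgebra.single g c = c • MonoidAlgebra.single g (1 : k) by simp, map_smul, map_smul,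
            show π (eψ (MonoidAlgebra.single g (1 : k))) = 1 from hall g, map_smul,
            (MonoidAlgebra.isGroupLikeElem_single_one g).counit_eq_one, smul_eq_mul, mul_one,
            Algebra.algebraMap_eq_smul_one]
      rw [hJ, Ideal.map_le_iff_le_comap]
      intro b hb
      rw [Ideal.mem_comap, RingHom.mem_ker]
      show π (ψ b) = 0
      have h1 := hgen (e b)
      rw [show eψ (e b) = ψ b from congrArg ψ (e.symm_apply_apply b), CoalgHomClass.counit_comp_apply,
        show Coalgebra.counit (R := k) b = 0 from hb, map_zero] at h1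
      exact h1
    obtain ⟨g, hg⟩ := Groth.L08.Borel.exists_desc_bialg (Bialgebra.Quotient.mkBialgHom (R := k) J)
      Ideal.Quotient.mk_surjective π (fun b hb => hJπ (Ideal.Quotient.eq_zero_iff_mem.1 hb))
    exact exists_retraction_unipotent hU _ A' g
      (fun a' => ⟨_, (hg _).trans (hπ a').choose_spec⟩) rfl C θ hθ
  | succ d ih =>
    intro m hm A' _ _ π hπ hone hker C _ _ _ _ _ θ hθ
    rcases Nat.lt_or_ge m n with hmn | hmn
    swap
    · exact ih m (by omega) A' π hπ hone hker C θ hθ
    haveI : Algebra.FiniteType k A' := Algebra.FiniteType.of_surjective (π : A →ₐ[k] A') hπ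
    let j : Fin n := ⟨m, hmn⟩
    have hgl : IsGroupLikeElem k (π (χ j)) := (hχ j).map π
    haveI := isHopfIdeal_span_groupLike hgl
    have hfree : ∀ l : ℤ, l ≠ 0 → hgl.isUnit.unit ^ l ≠ 1 := by
      intro l hl hone'
      obtain ⟨g, hg⟩ := Groth.L08.Borel.exists_desc_bialg π hπ (ρ j) (hker j le_rfl)
      have h2 := congrArg (Units.map (g : A' →* MonoidAlgebra k (Multiplicative ℤ))) hone'
      rw [map_zpow, map_one] at h2
      have h1 : Units.map (g : A' →* MonoidAlgebra k (Multiplicative ℤ)) hgl.isUnit.unit =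
          (MonoidAlgebra.of k (Multiplicative ℤ)).toHomUnits (Multiplicative.ofAdd (1 : ℤ)) := by
        refine Units.ext ?_
        show g (π (χ j)) = MonoidAlgebra.single _ 1
        rw [hg, hρ, Pi.single_eq_same]
      rw [h1, ← map_zpow] at h2
      have h3 := congrArg Units.val h2
      change MonoidAlgebra.single (Multiplicative.ofAdd (1 : ℤ) ^ l) (1 : k) = 1 at h3
      rw [MonoidAlgebra.one_def] at h3
      have h4 := congrArg Multiplicative.toAdd (MonoidAlgebra.single_left_injective one_ne_zero h3)
      simp at h4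
      exact hl h4
    obtain ⟨z, hff, θ', hθ'⟩ := exists_cut_groupLike hθ hgl hfree
    let q : A' →ₐc[k] A' ⧸ Ideal.span {π (χ j) - 1} := Bialgebra.Quotient.mkBialgHom (R := k) _
    have hq1 : q (π (χ j)) = 1 := by
      rw [← map_one q]
      exact Ideal.Quotient.eq.2 (Ideal.mem_span_singleton_self _)
    obtain ⟨σ⟩ := ih (m + 1) (by omega) (A' ⧸ Ideal.span {π (χ j) - 1}) (q.comp π)
      (Ideal.Quotient.mk_surjective.comp hπ)
      (fun i hi => by
        show q (π (χ i)) = 1
        rcases Nat.lt_or_ge (i : ℕ) m with h | h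
        · rw [hone i h, map_one]
        · rw [show i = j from Fin.ext (by simp only [j]; omega), hq1])
      (fun l hl a ha => by
        obtain ⟨b', hb'⟩ := Ideal.mem_span_singleton'.1 (Ideal.Quotient.eq_zero_iff_mem.1 (show q (π a) = 0 from ha))
        obtain ⟨b, rfl⟩ := hπ b'
        have h0 : ρ l (a - b * (χ j - 1)) = 0 := hker l (by omega) _ (by
          rw [map_sub, map_mul, map_sub, map_one, hb', sub_self])
        have hjl : ρ l (χ j - 1) = 0 := by
          have hne : j ≠ l := fun h => by
            have := congrArg Fin.val h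
            simp only [j] at this
            omega
          rw [map_sub, map_one, hρ, Pi.single_eq_of_ne hne.symm]
          exact sub_eq_zero.2 rfl
        rw [map_sub, map_mul, hjl, mul_zero, sub_zero] at h0
        exact h0)
      (C ⧸ Ideal.span {z}) θ' hθ'
    exact ⟨σ.comp (Ideal.Quotient.mkₐ B _)⟩

end Groth.L16.SolvTorsor
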