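import Groth.Agent.L27.Torsor.UnitCocycle
import Groth.Agent.L01.UnipSplit.Basic
import Mathlib.RingTheory.Flat.FaithfullyFlat.Algebra
import Mathlib.RingTheory.TensorProduct.Quotient
import Mathlib.RingTheory.HopfAlgebra.Quotient

/-!
# Torsor algebras: cutting down by one element
-/

set_option autoImplicit false
set_option linter.style.haveILetI false

universe u

open TensorProduct WithConv
open Groth.L27.Torsor (e12 e13 e23)
open Groth.L01.UnipSplit (pre_mul post_mul)

noncomputable section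

namespace Groth.L16.SolvTorsor

variable {k : Type u} [Field k] {A : Type u} [CommRing A] [HopfAlgebra k A]
  {B : Type u} [CommRing B] [Algebra k B] {C : Type u} [CommRing C] [Algebra B C] [Algebra k C]
  [IsScalarTower k B C]

/-- The shearing map of a translator. -/
def shear (θ : A →ₐ[k] C ⊗[B] C) : C ⊗[k] A →ₐ[C] C ⊗[B] C :=
  Algebra.TensorProduct.lift (Algebra.ofId C _) θ fun _ _ => Commute.all _ _

theorem shear_tmul (θ : A →ₐ[k] C ⊗[B] C) (c : C) (a : A) : shear θ (c ⊗ₜ a) = (c ⊗ₜ[B] (1 : C)) * θ a := by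
  simp [shear, Algebra.TensorProduct.algebraMap_apply]

/-- A translator making `C` a torsor algebra over `B` under `Spec A`. -/
structure IsTorsor (θ : A →ₐ[k] C ⊗[B] C) : Prop where
  bij : Function.Bijective (shear θ)
  cocycle : toConv (((e13 B C).restrictScalars k).comp θ) =
    toConv (((e23 B C).restrictScalars k).comp θ) * toConv (((e12 B C).restrictScalars k).comp θ)

section ff

variable {S C A' : Type u} [CommRing S] [Algebra k S] [CommRing C] [Algebra k C] [Algebra S C]
  [IsScalarTower k S C] [CommRing A'] [Algebra k A'] [Algebra S A'] [IsScalarTower k S A']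

theorem faithfullyFlat_quotient [Module.FaithfullyFlat S A'] (x : S)
    (hgen : ∀ {T : Type u} [CommRing T] [Algebra k T] (f g : S →ₐ[k] T), f x = g x → f = g)
    (w : C ⊗[k] A')
    (hw : Ideal.span {w} = Ideal.span {((1 : C) ⊗ₜ[k] algebraMap S A' x - algebraMap S C x ⊗ₜ[k] (1 : A') : C ⊗[k] A')}) :
    Module.FaithfullyFlat C ((C ⊗[k] A') ⧸ Ideal.span {w}) := by
  let Q := (C ⊗[k] A') ⧸ Ideal.span {w}
  let inC : C →ₐ[C] Q := Algebra.ofId C Q
  let inA : A' →ₐ[k] Q := ((Ideal.Quotient.mkₐ k (Ideal.span {w}))).comp Algebra.TensorProduct.includeRight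
  have hS : inA.comp (IsScalarTower.toAlgHom k S A') =
      (inC.restrictScalars k).comp (IsScalarTower.toAlgHom k S C) := by
    refine hgen _ _ ?_
    show (Ideal.Quotient.mk (Ideal.span {w})) ((1 : C) ⊗ₜ[k] algebraMap S A' x) =
      (Ideal.Quotient.mk (Ideal.span {w})) (algebraMap S C x ⊗ₜ[k] (1 : A'))
    rw [Ideal.Quotient.eq, hw]
    exact Ideal.mem_span_singleton_self _
  let inAS : A' →ₐ[S] Q := { inA.toRingHom with commutes' := fun s => AlgHom.congr_fun hS s }
  let bwd : C ⊗[S] A' →ₐ[C] Q := Algebra.TensorProduct.lift inC inAS fun _ _ => Commute.all _ _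
  let m : C ⊗[k] A' →ₐ[C] C ⊗[S] A' := Algebra.TensorProduct.lift (Algebra.ofId C _)
    ((Algebra.TensorProduct.includeRight : A' →ₐ[S] C ⊗[S] A').restrictScalars k) fun _ _ => Commute.all _ _
  have hm : ∀ z ∈ Ideal.span {w}, m z = 0 := by
    intro z hz
    rw [hw, Ideal.mem_span_singleton'] at hz
    obtain ⟨r, rfl⟩ := hz
    rw [map_mul]
    refine mul_eq_zero_of_right _ ?_
    rw [map_sub]
    simp only [m, Algebra.TensorProduct.lift_tmul, map_one, one_mul, mul_one, Algebra.ofId_apply,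
      Algebra.TensorProduct.algebraMap_apply, AlgHom.restrictScalars_apply,
      Algebra.TensorProduct.includeRight_apply]
    exact sub_eq_zero.2 (Algebra.TensorProduct.tmul_one_eq_one_tmul (R := S) (A := C) (B := A') x).symm
  let fwd : Q →ₐ[C] C ⊗[S] A' := Ideal.Quotient.liftₐ _ m hm
  have h1 : bwd.comp fwd = AlgHom.id C Q := by
    refine Ideal.Quotient.algHom_ext C ?_
    refine Algebra.TensorProduct.ext (by ext) (AlgHom.ext fun a => ?_)
    show bwd (m ((1 : C) ⊗ₜ[k] a)) = Ideal.Quotient.mk _ ((1 : C) ⊗ₜ[k] a)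
    simp [m, bwd, inAS, inA]
  have h2 : fwd.comp bwd = AlgHom.id C _ := by
    refine Algebra.TensorProduct.ext (by ext) (AlgHom.ext fun a => ?_)
    show fwd (bwd ((1 : C) ⊗ₜ[S] a)) = (1 : C) ⊗ₜ[S] a
    simp [bwd, inAS, inA]
    show m ((1 : C) ⊗ₜ[k] a) = _
    simp [m]
  exact Module.FaithfullyFlat.of_linearEquiv _ _ (AlgEquiv.ofAlgHom fwd bwd h2 h1).toLinearEquiv

end ff

theorem faithfullyFlat_of_tensor [Module.FaithfullyFlat B C] (D : Type u) [CommRing D] [Algebra B D]
    [Module.FaithfullyFlat C (C ⊗[B] D)] : Module.FaithfullyFlat B D := by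
  haveI : Module.Flat B D := Module.Flat.of_flat_tensorProduct B D C
  refine Module.FaithfullyFlat.of_comap_surjective fun p => ?_
  obtain ⟨q, hq⟩ := PrimeSpectrum.comap_surjective_of_faithfullyFlat (A := B) (B := C) p
  obtain ⟨r, hr⟩ := PrimeSpectrum.comap_surjective_of_faithfullyFlat (A := C) (B := C ⊗[B] D) q
  refine ⟨PrimeSpectrum.comap (Algebra.TensorProduct.includeRight : D →ₐ[B] C ⊗[B] D).toRingHom r, ?_⟩
  rw [← PrimeSpectrum.comap_comp_apply, show (Algebra.TensorProduct.includeRight : D →ₐ[B] C ⊗[B] D).toRingHom.comp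
      (algebraMap B D) = (algebraMap C (C ⊗[B] D)).comp (algebraMap B C) from
      RingHom.ext fun b => by
        show (1 : C) ⊗ₜ[B] algebraMap B D b = algebraMap B C b ⊗ₜ[B] (1 : D)
        rw [Algebra.TensorProduct.tmul_one_eq_one_tmul],
    PrimeSpectrum.comap_comp_apply, hr, hq]

/-- Cutting a torsor algebra down by one element. -/
theorem exists_cut [Module.FaithfullyFlat B C] {θ : A →ₐ[k] C ⊗[B] C} (h : IsTorsor θ) {S : Type u} [CommRing S]
    [Algebra k S] [Algebra S A] [IsScalarTower k S A] [Algebra S C] [IsScalarTower k S C] [Module.FaithfullyFlat S A]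
    (x : S) (hgen : ∀ {T : Type u} [CommRing T] [Algebra k T] (f g : S →ₐ[k] T), f x = g x → f = g)
    (a : A) [(Ideal.span {a}).IsHopfIdeal k] (z : C) (w : C ⊗[k] A) (hwz : shear θ w = (1 : C) ⊗ₜ[B] z)
    (hw : Ideal.span {w} = Ideal.span {((1 : C) ⊗ₜ[k] algebraMap S A x - algebraMap S C x ⊗ₜ[k] (1 : A) : C ⊗[k] A)})
    (hwI : w ∈ Ideal.span {z ⊗ₜ[k] (1 : A), (1 : C) ⊗ₜ[k] a})
    (haI : (1 : C) ⊗ₜ[k] a ∈ Ideal.span {w, z ⊗ₜ[k] (1 : A)}) :
    Module.FaithfullyFlat B (C ⧸ Ideal.span {z}) ∧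
      ∃ θ' : A ⧸ Ideal.span {a} →ₐ[k] (C ⧸ Ideal.span {z}) ⊗[B] (C ⧸ Ideal.span {z}), IsTorsor θ' := by
  let C' := C ⧸ Ideal.span {z}
  let A' := A ⧸ Ideal.span {a}
  let Ψ : (C ⊗[k] A) ≃ₐ[C] C ⊗[B] C := AlgEquiv.ofBijective (shear θ) h.bij
  let pC : C →ₐ[B] C' := Ideal.Quotient.mkₐ B _
  let pA : A →ₐ[k] A' := Ideal.Quotient.mkₐ k _
  let p2 : C ⊗[B] C →ₐ[B] C' ⊗[B] C' := Algebra.TensorProduct.map pC pC
  have hz : pC z = 0 := Ideal.Quotient.eq_zero_iff_mem.2 (Ideal.mem_span_singleton_self z)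
  have hzl : p2 (z ⊗ₜ[B] (1 : C)) = 0 := by simp [p2, hz]
  have hzr : p2 ((1 : C) ⊗ₜ[B] z) = 0 := by simp [p2, hz]
  -- flatness
  have hff : Module.FaithfullyFlat B C' := by
    haveI : Module.FaithfullyFlat C ((C ⊗[k] A) ⧸ Ideal.span {w}) := faithfullyFlat_quotient x hgen w hw
    have hmap : Ideal.map Algebra.TensorProduct.includeRight (Ideal.span {z}) =
        (Ideal.span {w}).map (Ψ : C ⊗[k] A →+* C ⊗[B] C) := by
      rw [Ideal.map_span, Ideal.map_span, Set.image_singleton, Set.image_singleton]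
      exact congrArg (fun t => Ideal.span {t}) hwz.symm
    let e : C ⊗[B] C' ≃ₐ[C] (C ⊗[k] A) ⧸ Ideal.span {w} :=
      (Algebra.TensorProduct.tensorQuotientEquiv C C C (Ideal.span {z})).trans
        (Ideal.quotientEquivAlg _ _ Ψ hmap).symm
    haveI : Module.FaithfullyFlat C (C ⊗[B] C') := Module.FaithfullyFlat.of_linearEquiv _ _ e.toLinearEquiv
    exact faithfullyFlat_of_tensor (C := C) C'
  -- the translator
  have hθa : ((p2.restrictScalars k).comp θ) a = 0 := by
    obtain ⟨r, s, hrs⟩ := Ideal.mem_span_pair.1 haI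
    have e1 := congrArg (fun t => p2 (shear θ t)) hrs
    simp only [map_add, map_mul, hwz, hzr, mul_zero, zero_add, shear_tmul, map_one, mul_one] at e1
    rw [show (1 : C) ⊗ₜ[B] (1 : C) = 1 from rfl, map_one, one_mul, hzl, mul_zero] at e1
    exact e1.symm
  let θ' : A' →ₐ[k] C' ⊗[B] C' := Ideal.Quotient.liftₐ _ ((p2.restrictScalars k).comp θ) fun t ht => by
    obtain ⟨r, rfl⟩ := Ideal.mem_span_singleton'.1 ht
    rw [map_mul, hθa, mul_zero]
  have hθ' : ∀ t, θ' (pA t) = p2 (θ t) := fun t => rfl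
  refine ⟨hff, θ', ⟨⟨?_, ?_⟩, ?_⟩⟩
  · -- injectivity: an explicit left inverse
    let q : C ⊗[k] A →ₐ[k] C' ⊗[k] A' := Algebra.TensorProduct.map (pC.restrictScalars k) pA
    have hqz : q (z ⊗ₜ[k] (1 : A)) = 0 := by simp [q, hz]
    have hqa : q ((1 : C) ⊗ₜ[k] a) = 0 := by
      simp [q, show pA a = 0 from Ideal.Quotient.eq_zero_iff_mem.2 (Ideal.mem_span_singleton_self a)]
    have hqw : q w = 0 := by
      obtain ⟨r, s, hrs⟩ := Ideal.mem_span_pair.1 hwI
      rw [← hrs, map_add, map_mul, map_mul, hqz, hqa, mul_zero, mul_zero, add_zero]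
    let qC : C →ₐ[B] C' ⊗[k] A' :=
      { (q.toRingHom.comp (Ψ.symm : C ⊗[B] C →+* C ⊗[k] A)).comp
          (Algebra.TensorProduct.includeLeftRingHom : C →+* C ⊗[B] C) with
        commutes' := fun b => by
          show q (Ψ.symm (algebraMap B C b ⊗ₜ[B] (1 : C))) = algebraMap B (C' ⊗[k] A') b
          rw [show algebraMap B C b ⊗ₜ[B] (1 : C) = algebraMap C (C ⊗[B] C) (algebraMap B C b) from rfl,
            AlgEquiv.commutes, Algebra.TensorProduct.algebraMap_apply]
          simp only [q, pC, Algebra.TensorProduct.map_tmul, map_one]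
          rfl }
    let qR : C →ₐ[B] C' ⊗[k] A' :=
      { (q.toRingHom.comp (Ψ.symm : C ⊗[B] C →+* C ⊗[k] A)).comp
          (Algebra.TensorProduct.includeRight : C →ₐ[B] C ⊗[B] C).toRingHom with
        commutes' := fun b => by
          show q (Ψ.symm ((1 : C) ⊗ₜ[B] algebraMap B C b)) = algebraMap B (C' ⊗[k] A') b
          rw [← Algebra.TensorProduct.tmul_one_eq_one_tmul,
            show algebraMap B C b ⊗ₜ[B] (1 : C) = algebraMap C (C ⊗[B] C) (algebraMap B C b) from rfl,
            AlgEquiv.commutes, Algebra.TensorProduct.algebraMap_apply]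
          simp only [q, pC, Algebra.TensorProduct.map_tmul, map_one]
          rfl }
    have hqC : ∀ t ∈ Ideal.span {z}, qC t = 0 := fun t ht => by
      obtain ⟨r, rfl⟩ := Ideal.mem_span_singleton'.1 ht
      rw [map_mul]
      refine mul_eq_zero_of_right _ ?_
      show q (Ψ.symm (algebraMap C (C ⊗[B] C) z)) = 0
      rw [AlgEquiv.commutes]
      exact hqz
    have hqR : ∀ t ∈ Ideal.span {z}, qR t = 0 := fun t ht => by
      obtain ⟨r, rfl⟩ := Ideal.mem_span_singleton'.1 ht
      rw [map_mul]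
      refine mul_eq_zero_of_right _ ?_
      show q (Ψ.symm ((1 : C) ⊗ₜ[B] z)) = 0
      rw [show (1 : C) ⊗ₜ[B] z = Ψ w from hwz.symm, AlgEquiv.symm_apply_apply]
      exact hqw
    let inv : C' ⊗[B] C' →ₐ[B] C' ⊗[k] A' :=
      Algebra.TensorProduct.lift (Ideal.Quotient.liftₐ _ qC hqC) (Ideal.Quotient.liftₐ _ qR hqR)
        fun _ _ => Commute.all _ _
    have hinv : ∀ t : C ⊗[B] C, inv (p2 t) = q (Ψ.symm t) := by
      intro t
      induction t with
      | zero => simp
      | add t t' ht ht' => simp only [map_add, ht, ht']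
      | tmul c c' =>
        simp only [p2, inv, Algebra.TensorProduct.map_tmul, Algebra.TensorProduct.lift_tmul]
        show qC c * qR c' = _
        show q (Ψ.symm (c ⊗ₜ[B] (1 : C))) * q (Ψ.symm ((1 : C) ⊗ₜ[B] c')) = _
        rw [← map_mul, ← map_mul, Algebra.TensorProduct.tmul_mul_tmul, mul_one, one_mul]
    refine Function.LeftInverse.injective (g := inv) fun t => ?_
    induction t with
    | zero => simp
    | add t t' ht ht' => simp only [map_add, ht, ht']
    | tmul c' a' =>
      obtain ⟨c, rfl⟩ := Ideal.Quotient.mk_surjective c'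
      obtain ⟨t, rfl⟩ := Ideal.Quotient.mk_surjective a'
      have e1 : shear θ' (pC c ⊗ₜ[k] pA t) = p2 (shear θ (c ⊗ₜ[k] t)) := by
        rw [shear_tmul, shear_tmul, map_mul, hθ']
        simp [p2]
      show inv (shear θ' (pC c ⊗ₜ[k] pA t)) = pC c ⊗ₜ[k] pA t
      rw [e1, hinv, show shear θ (c ⊗ₜ[k] t) = Ψ (c ⊗ₜ[k] t) from rfl, AlgEquiv.symm_apply_apply]
      simp [q]
  · intro t
    induction t with
    | zero => exact ⟨0, map_zero _⟩
    | add t t' ht ht' =>
      obtain ⟨v, rfl⟩ := ht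
      obtain ⟨v', rfl⟩ := ht'
      exact ⟨v + v', map_add _ _ _⟩
    | tmul c c' =>
      obtain ⟨c, rfl⟩ := Ideal.Quotient.mk_surjective c
      obtain ⟨c', rfl⟩ := Ideal.Quotient.mk_surjective c'
      obtain ⟨v, hv⟩ := h.bij.2 (c ⊗ₜ[B] c')
      refine ⟨Algebra.TensorProduct.map (pC.restrictScalars k) pA v, ?_⟩
      have e1 : ∀ v, shear θ' (Algebra.TensorProduct.map (pC.restrictScalars k) pA v) = p2 (shear θ v) := by
        intro v
        induction v with
        | zero => simp
        | add v v' ht ht' => simp only [map_add, ht, ht']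
        | tmul c t =>
          rw [Algebra.TensorProduct.map_tmul, shear_tmul, shear_tmul, map_mul, hθ']
          simp [p2]
      rw [e1, hv]
      simp only [p2, pC, Algebra.TensorProduct.map_tmul]
      rfl
  · let p3 : C ⊗[B] (C ⊗[B] C) →ₐ[B] C' ⊗[B] (C' ⊗[B] C') := Algebra.TensorProduct.map pC p2
    have e1 : (e13 B C').comp p2 = p3.comp (e13 B C) := by
      refine Algebra.TensorProduct.ext (AlgHom.ext fun c => ?_) (AlgHom.ext fun c => ?_) <;> simp [p3, p2]
    have e2 : (e12 B C').comp p2 = p3.comp (e12 B C) := by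
      refine Algebra.TensorProduct.ext (AlgHom.ext fun c => ?_) (AlgHom.ext fun c => ?_) <;> simp [p3, p2]
    have e3 : (e23 B C').comp p2 = p3.comp (e23 B C) := by
      refine Algebra.TensorProduct.ext (AlgHom.ext fun c => ?_) (AlgHom.ext fun c => ?_) <;> simp [p3, p2]
    let π : A →ₐc[k] A' := Bialgebra.Quotient.mkBialgHom (R := k) _
    refine WithConv.ofConv_injective (AlgHom.ext fun t' => ?_)
    obtain ⟨t, rfl⟩ := Ideal.Quotient.mk_surjective t'
    have key := congrArg (fun f : WithConv (A →ₐ[k] C' ⊗[B] (C' ⊗[B] C')) => f.ofConv t)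
      (show toConv ((toConv (((e23 B C').restrictScalars k).comp θ') *
          toConv (((e12 B C').restrictScalars k).comp θ')).ofConv.comp (π : A →ₐ[k] A')) =
        toConv ((p3.restrictScalars k).comp (toConv (((e23 B C).restrictScalars k).comp θ) *
          toConv (((e12 B C).restrictScalars k).comp θ)).ofConv) by
        refine (pre_mul π _ _).trans (Eq.trans ?_ (post_mul _ _ _).symm)
        congr 1
        refine congrArg toConv (AlgHom.ext fun v => ?_)
        first
          | exact (congrArg ((e23 B C').restrictScalars k) (hθ' v)).trans (AlgHom.congr_fun e3 (θ v))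
          | exact (congrArg ((e12 B C').restrictScalars k) (hθ' v)).trans (AlgHom.congr_fun e2 (θ v)))
    rw [← h.cocycle] at key
    refine Eq.trans ?_ key.symm
    exact (congrArg (e13 B C') (hθ' t)).trans (AlgHom.congr_fun e1 (θ t))

/-- A torsor algebra under the trivial group is the base. -/
theorem exists_retraction_of_trivial [Module.FaithfullyFlat B C] {θ : A →ₐ[k] C ⊗[B] C} (h : IsTorsor θ)
    (htriv : ∀ a : A, a = algebraMap k A (Coalgebra.counit (R := k) a)) : Nonempty (C →ₐ[B] B) := by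
  have hl : Function.Surjective (algebraMap C (C ⊗[B] C)) := by
    intro t
    obtain ⟨v, rfl⟩ := h.bij.2 t
    induction v with
    | zero => exact ⟨0, by simp⟩
    | add v v' ht ht' =>
      obtain ⟨r, hr⟩ := ht
      obtain ⟨r', hr'⟩ := ht'
      exact ⟨r + r', by rw [map_add, map_add, hr, hr']⟩
    | tmul c a =>
      refine ⟨c * algebraMap k C (Coalgebra.counit (R := k) a), ?_⟩
      rw [shear_tmul, htriv a, AlgHom.commutes, map_mul]
      simp [IsScalarTower.algebraMap_apply k C (C ⊗[B] C), Algebra.TensorProduct.algebraMap_apply]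
  have hsurj : Function.Surjective (Algebra.linearMap B C) := by
    refine (Module.FaithfullyFlat.lTensor_surjective_iff_surjective B C _).1 fun t => ?_
    obtain ⟨c, rfl⟩ := hl t
    exact ⟨c ⊗ₜ 1, by simp [Algebra.TensorProduct.algebraMap_apply]⟩
  have hbij : Function.Bijective (Algebra.ofId B C) :=
    ⟨FaithfulSMul.algebraMap_injective B C, hsurj⟩
  exact ⟨(AlgEquiv.ofBijective (Algebra.ofId B C) hbij).symm.toAlgHom⟩

end Groth.L16.SolvTorsor
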